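import Cfsg.Agent.H960.KGV.Defs

/-!
# k(G) < |V|: the primitive case, definitions (project of helper960)

* `alg N` : the subalgebra of `End V` spanned by the group `N`;
* `Prim H` : `H` preserves no decomposition of `V` with at least two blocks;
* `Two R` : `R` is normal in a normal subgroup;
* `Core A N C p f a ψ` : the configuration reached in a primitive group `H`: `A` is a maximal abelian normal
  subgroup, `N / A` a chief factor of `H` with `N` absolutely irreducible of degree `a` over the field `F` with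
  `p ^ f` elements, `A` the scalars in `H`, `C` the subgroup of the `F`-linear elements of `H`.
-/

set_option autoImplicit false

namespace Cfsg.Agent.H960.KGV

section Lin

variable {p : ℕ} {V : Type} [AddCommGroup V] [Module (ZMod p) V]

/-- the algebra spanned by a group `N` of automorphisms -/
abbrev alg (N : Subgroup (V ≃ₗ[ZMod p] V)) : Subalgebra (ZMod p) (Module.End (ZMod p) V) :=
  Algebra.adjoin (ZMod p)
    ((fun g : V ≃ₗ[ZMod p] V => (g : V →ₗ[ZMod p] V)) '' (N : Set (V ≃ₗ[ZMod p] V)))

/-- `H` preserves no decomposition of `V` into at least two blocks -/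
def Prim (H : Subgroup (V ≃ₗ[ZMod p] V)) : Prop :=
  ∀ (k : ℕ) (W : Fin k → Submodule (ZMod p) V), Blk H W → k ≤ 1

end Lin

/-- `R` is normal in a normal subgroup -/
def Two {H : Type} [Group H] (R : Subgroup H) : Prop :=
  ∃ R' : Subgroup H, R'.Normal ∧ R ≤ R' ∧ ∀ x ∈ R', ∀ y ∈ R, x * y * x⁻¹ ∈ R

/-- the central configuration -/
structure Core {H : Type} [Group H] (A N C : Subgroup H) (p f a : ℕ) {F : Type} [Field F]
    (ψ : C →* GL (Fin a) F) : Prop where
  /-- `p` is a prime -/
  prime : p.Prime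
  /-- `H` is finite -/
  fin : Finite H
  /-- `H` is a `p'`-group -/
  coprime : ¬ p ∣ Nat.card H
  /-- `A` is normal -/
  An : A.Normal
  /-- `N` is normal -/
  Nn : N.Normal
  /-- `C` is normal -/
  Cn : C.Normal
  /-- `A < N` -/
  AN : A ≤ N
  /-- `A < N` -/
  ne : A ≠ N
  /-- `N ≤ C` -/
  NC : N ≤ C
  /-- `H / C` is a group of field automorphisms -/
  index : C.index ∣ f
  /-- the size of the field -/
  cardF : Nat.card F = p ^ f
  /-- `C` is a linear group -/
  inj : Function.Injective ψ
  /-- `A` is the group of scalars -/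
  scal : ∀ c : C, (c : H) ∈ A ↔ ∃ s : F, (ψ c : Matrix (Fin a) (Fin a) F) = s • 1
  /-- `N` is irreducible -/
  irr : ∀ U : Submodule F (Fin a → F), (∀ c : C, (c : H) ∈ N → ∀ u ∈ U,
    (ψ c : Matrix (Fin a) (Fin a) F).mulVec u ∈ U) → U = ⊥ ∨ U = ⊤
  /-- `N` is absolutely irreducible -/
  abs : ∀ M : Matrix (Fin a) (Fin a) F, (∀ c : C, (c : H) ∈ N →
    M * (ψ c : Matrix (Fin a) (Fin a) F) = (ψ c : Matrix (Fin a) (Fin a) F) * M) →
      ∃ s : F, M = s • (1 : Matrix (Fin a) (Fin a) F)
  /-- `N / A` is a chief factor -/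
  min : ∀ M : Subgroup H, M.Normal → A ≤ M → M ≤ N → M = A ∨ M = N
  /-- the degree is at least 2 -/
  two_le : 2 ≤ a

end Cfsg.Agent.H960.KGV
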