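import Cfsg.Agent.H960.KGV.Defs
import Cfsg.Prelude.Def_Classification2
import Cfsg.Agent.SmallSimple.Embed

set_option autoImplicit false

/-!
# The casework of the classification for the table `Row`

`Rows`: one field per family. `row_of_rows`: the table, from the rows and the classification.
-/

namespace Cfsg.Agent.H960.KGV

open Cfsg

/-- `Row` for all simple non-abelian groups with property `P`. -/
def RowOf (P : ∀ (T : Type) [Group T], Prop) : Prop :=
  ∀ (T : Type) [Group T] [Finite T] [IsSimpleGroup T], ¬ IsMulCommutative T → P T → Row T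

/-- the rows of the table. -/
structure Rows : Prop where
  alt : RowOf (fun T _ => ∃ n : ℕ, 5 ≤ n ∧ Nonempty (T ≃* ↥(alternatingGroup (Fin n))))
  psl : RowOf (fun T _ => IsPSL T)
  psp : RowOf (fun T _ => IsPSp T)
  psu : RowOf (fun T _ => IsPSU T)
  omegaOdd : RowOf (fun T _ => IsPOmegaOdd T)
  omegaPlus : RowOf (fun T _ => IsPOmegaPlus T)
  omegaMinus : RowOf (fun T _ => IsPOmegaMinus T)
  g2 : RowOf (fun T _ => Lie.IsoChevG2 T)
  f4 : RowOf (fun T _ => Lie.IsoF4 T)
  e6 : RowOf (fun T _ => Lie.IsoChevE6 T)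
  e7 : RowOf (fun T _ => Lie.IsoE7 T)
  e8 : RowOf (fun T _ => Lie.IsoE8 T)
  twE6 : RowOf (fun T _ => Lie.Iso2E6 T)
  twD4 : RowOf (fun T _ => Lie.Iso3D4 T)
  suzuki : RowOf (fun T _ => Lie.IsoSuzuki T)
  ree : RowOf (fun T _ => Lie.IsoRee T)
  twF4 : RowOf (fun T _ => Lie.Iso2F4 T)
  tits : RowOf (fun T _ => Lie.IsoTits T)
  sporadic : RowOf (fun T _ => IsSporadicGroup T)

theorem RowOf.or {P Q : ∀ (T : Type) [Group T], Prop} (hP : RowOf P) (hQ : RowOf Q) :
    RowOf (fun T _ => P T ∨ Q T) := by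
  intro T _ _ _ hT h
  rcases h with h | h
  · exact hP T hT h
  · exact hQ T hT h

theorem row_of_rows (R : Rows)
    (cls : ∀ (T : Type) [Group T] [Finite T] [IsSimpleGroup T], IsKnownSimple' T)
    (T : Type) [Group T] [Finite T] [IsSimpleGroup T] (hT : ¬ IsMulCommutative T) : Row T := by
  rcases cls T with h | h | h | h | h | h | h | h |
    (h | h | h | h | h | h | h | h | h | h | h) | h
  · exact absurd h (SmallSimple.Embed.card_not_prime_of_not_comm hT)
  · exact R.alt T hT h
  · exact R.psl T hT h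
  · exact R.psp T hT h
  · exact R.psu T hT h
  · exact R.omegaOdd T hT h
  · exact R.omegaPlus T hT h
  · exact R.omegaMinus T hT h
  · exact R.g2 T hT h
  · exact R.f4 T hT h
  · exact R.e6 T hT h
  · exact R.e7 T hT h
  · exact R.e8 T hT h
  · exact R.twE6 T hT h
  · exact R.twD4 T hT h
  · exact R.suzuki T hT h
  · exact R.ree T hT h
  · exact R.twF4 T hT h
  · exact R.tits T hT h
  · exact R.sporadic T hT h

end Cfsg.Agent.H960.KGV
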